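import Mathlib
import Cfsg.Agent.Lib.Helper99.UnitaryTI

set_option autoImplicit false

/-!
# `Ls` hive (S2334 + S2335): Landazuri–Seitz bound for `SU_n(q)` — definitions

`T q n` is the bound: `T q n = (q^n - q)/(q+1)` for `n` odd, `(q^n - 1)/(q+1)` for `n` even.
Everything is phrased for complex representations of `SUg F n q = ↥(suGL n q)` (helper99's `SU_n(q)` inside `GL`).
-/

namespace Cfsg.Agent.Lib.Helper6.Ls

open Module Cfsg.Agent.Lib.Helper99

/-- the Landazuri–Seitz bound, by its recursion `T (n+2) = (q-1) q^n + T n`. -/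
def T (q : ℕ) : ℕ → ℕ
  | 0 => 0
  | 1 => 0
  | (n + 2) => (q - 1) * q ^ n + T q n

section abstract

variable {G : Type*} [Group G] {W : Type*} [AddCommGroup W] [Module ℂ W]

/-- the fixed vectors of the subgroup `Z` inside the subspace `U`. -/
def fixIn (ρ : Representation ℂ G W) (Z : Subgroup G) (U : Submodule ℂ W) : Submodule ℂ W :=
  U ⊓ ⨅ z : Z, LinearMap.ker (ρ (z : G) - 1)

/-- the vectors of `U` on which every `z ∈ Z` acts by the scalar `lam z`. -/
def eigIn (ρ : Representation ℂ G W) (Z : Subgroup G) (lam : G → ℂ) (U : Submodule ℂ W) :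
    Submodule ℂ W :=
  U ⊓ ⨅ z : Z, LinearMap.ker (ρ (z : G) - lam (z : G) • (1 : Module.End ℂ W))

/-- `Z` does not act trivially on `U`. -/
def ActsNontriv (ρ : Representation ℂ G W) (Z : Subgroup G) (U : Submodule ℂ W) : Prop :=
  ∃ z ∈ Z, ∃ w ∈ U, ρ z w ≠ w

/-- `U` is stable under `g`. -/
def Stable (ρ : Representation ℂ G W) (g : G) (U : Submodule ℂ W) : Prop :=
  ∀ w ∈ U, ρ g w ∈ U

/-- the representation of `H` on the `φ(H)`-stable subspace `U`. -/
def subRep {H : Type*} [Group H] (ρ : Representation ℂ G W) (φ : H →* G) (U : Submodule ℂ W)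
    (hU : ∀ h, Stable ρ (φ h) U) : Representation ℂ H U where
  toFun h := (ρ (φ h)).restrict (hU h)
  map_one' := by
    ext w
    simp
  map_mul' a b := by
    ext w
    simp only [map_mul, Module.End.mul_apply, LinearMap.coe_restrict_apply]
    rfl

theorem subRep_apply {H : Type*} [Group H] (ρ : Representation ℂ G W) (φ : H →* G) (U : Submodule ℂ W)
    (hU : ∀ h, Stable ρ (φ h) U) (h : H) (w : U) : ((subRep ρ φ U hU h w : U) : W) = ρ (φ h) w := rfl

end abstract

section unitary

variable (F : Type*) [Field F] [Fintype F] (n q : ℕ)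

/-- `SU_n(q)` inside `GL_n(q²)`, as a type. -/
abbrev SUg : Type _ := ↥(suGL (F := F) n q)

variable {F n q}

/-- the root elements with centre `e`. -/
def rootSet (e : Fin n → F) : Set (SUg F n q) :=
  {g | ∃ c : F, c + c ^ q = 0 ∧ (g : GL (Fin n) F) = utv q e c}

/-- the root subgroup `Z_e = {utv e c : c + c^q = 0}` (closure of `rootSet e`; the leaf `ZG` shows it is the set). -/
def Zgrp (e : Fin n → F) : Subgroup (SUg F n q) := Subgroup.closure (rootSet e)

/-- some root subgroup acts non-trivially. -/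
def RootNontriv {W : Type*} [AddCommGroup W] [Module ℂ W] (ρ : Representation ℂ (SUg F n q) W) : Prop :=
  ∃ e : Fin n → F, Cfsg.hermForm n F q e e = 0 ∧ ActsNontriv ρ (Zgrp e) ⊤

/-- the matrix of `x ↦ x + h(x,e) (w + c e) - h(x,w) e`. -/
noncomputable def Emat (q : ℕ) (e w : Fin n → F) (c : F) : Matrix (Fin n) (Fin n) F :=
  1 + Matrix.vecMulVec (w + c • e) (fun j => (e j) ^ q) - Matrix.vecMulVec e (fun j => (w j) ^ q)

/-- `Emat` as an element of `GL` (junk `1` if not invertible). -/
noncomputable def Eelt (q : ℕ) (e w : Fin n → F) (c : F) : GL (Fin n) F := by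
  classical
  exact if h : IsUnit (Emat q e w c) then h.unit else 1

/-- an element of `GL` as an element of `SUg` (junk `1` if it is not in `suGL`). -/
noncomputable def toSUg (g : GL (Fin n) F) : SUg F n q := by
  classical
  exact if h : g ∈ suGL (F := F) n q then ⟨g, h⟩ else 1

/-- the abelian group attached to the totally isotropic line `⟨e, u⟩`: generated by all root subgroups with centre
on the line. -/
def lineGrp (e u : Fin n → F) : Subgroup (SUg F n q) := ⨆ v : F × F, Zgrp (v.1 • e + v.2 • u)

/-- padding a vector with two zero coordinates in front. -/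
def pad2 {m : ℕ} (v : Fin m → F) : Fin (m + 2) → F :=
  Fin.cons 0 (Fin.cons 0 v)

end unitary

end Cfsg.Agent.Lib.Helper6.Ls
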