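import Cfsg.Agent.Lib.Helper6.Ls.Defs

set_option autoImplicit false

namespace Cfsg.Agent.Lib.Helper6.Ls

/-- the index type of the points of the line (as non-zero coordinate pairs). -/
abbrev LinePt (F : Type*) [Field F] : Type _ := {v : F × F // v ≠ 0}

end Cfsg.Agent.Lib.Helper6.Ls
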