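import Cfsg.Agent.Lib.Helper6.Ls.Defs
import Cfsg.Agent.Lib.Helper6.Ls.LinePt
import Cfsg.Agent.Lib.Helper6.Ls.FixI
import Cfsg.Agent.Lib.Helper24.LsABCONJ
import Cfsg.Agent.Lib.Helper24.LsABSTAB
import Cfsg.Agent.Lib.Helper24.LsABTOR
import Cfsg.Agent.Lib.Helper42.LsCTOR2
import Cfsg.Agent.Lib.Helper44.LsCHEIS
import Cfsg.Agent.Lib.Helper45.LsCTOR1
import Cfsg.Agent.Lib.Helper5.LsCMOVE
import Cfsg.Agent.Lib.Helper5.LsCTOP
import Cfsg.Agent.Lib.Helper60.LsFDUAL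
import Cfsg.Agent.Lib.Helper63.LsARITH
import Cfsg.Agent.Lib.Helper63.LsCFIXR
import Cfsg.Agent.Lib.Helper68.LsCLIFT
import Cfsg.Agent.Lib.Helper70.LsABISOT
import Cfsg.Agent.Lib.Helper70.LsABNT
import Cfsg.Agent.Lib.Helper79.LsABFIXNT
import Cfsg.Agent.Lib.Helper8.LsCEMAT
import Cfsg.Agent.Lib.Helper88.LsABHEIS
import Cfsg.Agent.Lib.Helper88.LsABSUB
import Cfsg.Agent.Lib.Helper95.LsCFIXA
import Cfsg.Agent.Lib.Helper95.LsCZG
import Cfsg.Agent.Lib.Helper99.LsCFIXT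
import Cfsg.Agent.Lib.Helper13.UnitaryConfig
import Cfsg.Agent.Lib.Helper13.UnitaryLift
import Cfsg.Prelude.Def_Classical

/-! # `Ls` hive: all leaves (imports only) -/
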