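import Cfsg.Agent.Lib.Helper6.Ls.Lower

set_option autoImplicit false

namespace Cfsg.Agent.Lib.Helper6.Ls

open Module Cfsg.Agent.Lib.Helper99

universe w

variable {F : Type*} [Field F] [Fintype F] {q : ℕ}

omit [Fintype F] in
theorem hermForm_pad2 {m : ℕ} (a b : Fin m → F) :
    Cfsg.hermForm (m + 2) F q (pad2 a) (pad2 b) = Cfsg.hermForm m F q a b := by
  unfold Cfsg.hermForm pad2
  rw [Fin.sum_univ_succ, Fin.sum_univ_succ]
  simp

theorem pad2_disjoint {m : ℕ} (e : Fin (m + 2) → F)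
    (hsupp : ∀ k : Fin (m + 2), k ≠ 0 → k ≠ 1 → e k = 0) (b : Fin m → F) :
    ∀ k, e k = 0 ∨ pad2 b k = 0 := by
  intro k
  by_cases h0 : k = 0
  · right; subst h0; simp [pad2]
  by_cases h1 : k = 1
  · right; subst h1
    have : (1 : Fin (m + 2)) = Fin.succ 0 := rfl
    rw [this]; simp [pad2]
  · left; exact hsupp k h0 h1

omit [Fintype F] in
theorem stable_top {G : Type*} [Group G] {W : Type*} [AddCommGroup W] [Module ℂ W]
    (ρ : Representation ℂ G W) (g : G) : Stable ρ g ⊤ := fun _ _ => Submodule.mem_top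

theorem claim_step (hF : Fintype.card F = q ^ 2) (m : ℕ) (hm : 1 ≤ m)
    (IH : 3 ≤ m → ∀ (W : Type w) [AddCommGroup W] [Module ℂ W] [FiniteDimensional ℂ W]
      (ρ : Representation ℂ (SUg F m q) W), RootNontriv ρ → T q m ≤ finrank ℂ W)
    (W : Type w) [AddCommGroup W] [Module ℂ W] [FiniteDimensional ℂ W]
    (ρ : Representation ℂ (SUg F (m + 2) q) W) (hρ : RootNontriv ρ) :
    T q (m + 2) ≤ finrank ℂ W := by
  have hq2 : 2 ≤ q := q_ge_two hF
  have hq0 : q ≠ 0 := by omega
  -- the hyperbolic pair on the first two coordinates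
  obtain ⟨e, f, hee, hff, hef, hsupp⟩ :=
    Helper13.exists_hyp_pair_coords hF (0 : Fin (m + 2)) 1 (by
      intro h; exact absurd (congrArg Fin.val h) (by simp))
  have he0 : e ≠ 0 := by
    rintro rfl
    rw [hermForm_zero_left] at hef
    exact zero_ne_one hef
  -- WLOG the root group of `e` acts non-trivially
  have hnt : ActsNontriv ρ (Zgrp e) ⊤ := by
    obtain ⟨e1, he1, hnt1⟩ := hρ
    have he10 : e1 ≠ 0 := by
      rintro rfl
      rw [Zgrp_zero hF] at hnt1
      obtain ⟨z, hz, w, _, hw⟩ := hnt1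
      rw [Subgroup.mem_bot] at hz
      subst hz
      exact hw (by simp)
    obtain ⟨g, hg⟩ := exists_conj_Zgrp hF e1 e he10 he0 he1 hee
    rw [← hg]
    exact (actsNontriv_map_conj ρ (Zgrp e1) g).2 hnt1
  -- Heisenberg and torus data
  obtain ⟨Q1, ι, _, y, hZQ, hQ1, hcard, hyZ, hy, hsep⟩ :=
    exists_heis_data hF m hm e f hee hff hef hsupp
  obtain ⟨κ, _, t, hκ, htZ, hfree⟩ := exists_torus1 hF (m + 2) (by omega) e he0 hee
  have hlow := lower ρ ⊤ (Zgrp e) Q1 hZQ hQ1 y hyZ hy hsep t htZ hfree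
    (fun a _ => stable_top ρ a) (fun i => stable_top ρ (y i)) (fun k => stable_top ρ (t k)) hnt
  rw [finrank_top, hκ, hcard] at hlow
  have hT : T q (m + 2) = (q - 1) * q ^ m + T q m := rfl
  rw [hT]
  -- it remains to bound the fixed space
  suffices hfix : T q m ≤ finrank ℂ (fixIn ρ (Zgrp e) ⊤) by omega
  obtain rfl | hm2 : m = 1 ∨ 2 ≤ m := by omega
  · exact Nat.zero_le _
  obtain ⟨m', rfl⟩ : ∃ m', m = m' + 2 := ⟨m - 2, by omega⟩
  -- a second hyperbolic pair, on coordinates 2, 3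
  obtain ⟨u0, u0', hu0, hu0', hu0u0', -⟩ :=
    Helper13.exists_hyp_pair_coords hF (0 : Fin (m' + 2)) 1 (by
      intro h; exact absurd (congrArg Fin.val h) (by simp))
  set u : Fin (m' + 2 + 2) → F := pad2 u0 with hu_def
  set u' : Fin (m' + 2 + 2) → F := pad2 u0' with hu'_def
  have huu : Cfsg.hermForm (m' + 2 + 2) F q u u = 0 := by rw [hu_def, hermForm_pad2, hu0]
  have hu'u' : Cfsg.hermForm (m' + 2 + 2) F q u' u' = 0 := by rw [hu'_def, hermForm_pad2, hu0']
  have huu' : Cfsg.hermForm (m' + 2 + 2) F q u u' = 1 := by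
    rw [hu_def, hu'_def, hermForm_pad2, hu0u0']
  have hes : ∀ k : Fin (m' + 2 + 2), k ≠ 0 → k ≠ 1 → e k = 0 := fun k h0 h1 => (hsupp k h0 h1).1
  have hfs : ∀ k : Fin (m' + 2 + 2), k ≠ 0 → k ≠ 1 → f k = 0 := fun k h0 h1 => (hsupp k h0 h1).2
  have heu : Cfsg.hermForm (m' + 2 + 2) F q e u = 0 :=
    Helper13.hermForm_eq_zero_of_disjoint e u (pad2_disjoint e hes u0) hq0
  have heu' : Cfsg.hermForm (m' + 2 + 2) F q e u' = 0 :=
    Helper13.hermForm_eq_zero_of_disjoint e u' (pad2_disjoint e hes u0') hq0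
  have hfu : Cfsg.hermForm (m' + 2 + 2) F q f u = 0 :=
    Helper13.hermForm_eq_zero_of_disjoint f u (pad2_disjoint f hfs u0) hq0
  have hfu' : Cfsg.hermForm (m' + 2 + 2) F q f u' = 0 :=
    Helper13.hermForm_eq_zero_of_disjoint f u' (pad2_disjoint f hfs u0') hq0
  -- the root group of `u` acts non-trivially on the fixed space of the root group of `e`
  have hp0 : ((1 : F), (0 : F)) ≠ 0 := by
    intro h; exact one_ne_zero (congrArg Prod.fst h)
  have hp1 : ((0 : F), (1 : F)) ≠ 0 := by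
    intro h; exact one_ne_zero (congrArg Prod.snd h)
  have he1 : (1 : F) • e + (0 : F) • u = e := by simp
  have hu1 : (0 : F) • e + (1 : F) • u = u := by simp
  have hfixnt : ActsNontriv ρ (Zgrp u) (fixIn ρ (Zgrp e) ⊤) := by
    have key := fixnt ρ (lineGrp e u) (lineGrp_comm hF e u hee huu heu)
      (Zs := fun v : LinePt F => Zgrp (v.1.1 • e + v.1.2 • u))
      (fun v => le_iSup (fun v : F × F => (Zgrp (v.1 • e + v.2 • u) : Subgroup (SUg F _ q))) v.1)
      (fun v v' => v.1.1 * v'.1.2 - v.1.2 * v'.1.1 ≠ 0)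
      (exists_linePt_indep hF) ⟨(1, 0), hp0⟩ ⟨(0, 1), hp1⟩
      (by
        intro v v' hvv'
        obtain ⟨g, hg1, hg2⟩ := exists_conj_line hF (m' + 2 + 2) (by omega) e f u u' hee hff hef huu
          hu'u' huu' heu heu' hfu hfu' v v' hvv'
        refine ⟨g, ?_, ?_⟩
        · show (Zgrp ((1 : F) • e + (0 : F) • u)).map _ = _
          rw [he1]; exact hg1
        · show (Zgrp ((0 : F) • e + (1 : F) • u)).map _ = _
          rw [hu1]; exact hg2)
      (by
        intro μ h1 hmul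
        exact exists_isotropic_pt' hF (m' + 2 + 2) e u hee huu heu μ h1 hmul)
      (by
        show ActsNontriv ρ (Zgrp ((1 : F) • e + (0 : F) • u)) ⊤
        rw [he1]; exact hnt)
    have key' : ActsNontriv ρ (Zgrp ((0 : F) • e + (1 : F) • u))
        (fixIn ρ (Zgrp ((1 : F) • e + (0 : F) • u)) ⊤) := key
    rw [he1, hu1] at key'
    exact key'
  -- stability of the fixed space under anything commuting with the root group of `e`
  have hstab_comm : ∀ g : SUg F (m' + 2 + 2) q,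
      (∀ z ∈ (Zgrp e : Subgroup (SUg F (m' + 2 + 2) q)), g * z = z * g) →
      Stable ρ g (fixIn ρ (Zgrp e) ⊤) := by
    intro g hg
    apply stable_fixIn_of_normalizes
    intro z hz
    have : g⁻¹ * z * g = z := by
      rw [mul_assoc, ← hg z hz, ← mul_assoc, inv_mul_cancel, one_mul]
    rw [this]; exact hz
  obtain rfl | hm' : m' = 0 ∨ 1 ≤ m' := by omega
  · -- n = 4
    obtain ⟨κ', _, t', hκ', htZ', hfree', htE'⟩ := exists_torus2 hF (0 + 2 + 2) (by omega) e f u u'
      hee hff hef huu hu'u' huu' heu heu' hfu hfu'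
    have hlow' := lower ρ (fixIn ρ (Zgrp e) ⊤) (Zgrp u) (Zgrp u) le_rfl
      (Zgrp_commute hF u u huu huu huu) (ι := Unit) (fun _ => 1)
      (by intro _ z _; simp)
      (by intro _ a _; simp)
      (by intro i j hij; exact absurd (Subsingleton.elim i j) hij)
      t' htZ' hfree'
      (by
        intro a ha
        apply hstab_comm
        intro z hz
        exact (Zgrp_commute hF e u hee huu heu z hz a ha).symm)
      (by
        intro _ w hw
        simpa using hw)
      (by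
        intro k
        exact stable_fixIn_of_normalizes ρ (Zgrp e) (t' k) (htE' k))
      hfixnt
    rw [hκ'] at hlow'
    have hT2 : T q (0 + 2) = (q - 1) * q ^ 0 + T q 0 := rfl
    have hT0 : T q 0 = 0 := rfl
    rw [hT2, hT0]
    simp only [pow_zero, mul_one, add_zero, Fintype.card_unit] at hlow' ⊢
    omega
  · -- n ≥ 5
    obtain ⟨φ, hφc, hφZ⟩ := exists_lift hF (m' + 2) e hes hee
    have hU : ∀ g, Stable ρ (φ g) (fixIn ρ (Zgrp e) ⊤) := fun g => hstab_comm (φ g) (hφc g)
    have hroot : RootNontriv (subRep ρ φ (fixIn ρ (Zgrp e) ⊤) hU) := by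
      refine ⟨u0, hu0, ?_⟩
      apply actsNontriv_subRep
      rw [hφZ u0 hu0]
      exact hfixnt
    exact IH (by omega) _ (subRep ρ φ (fixIn ρ (Zgrp e) ⊤) hU) hroot

theorem claim (hF : Fintype.card F = q ^ 2) : ∀ n : ℕ, 3 ≤ n →
    ∀ (W : Type w) [AddCommGroup W] [Module ℂ W] [FiniteDimensional ℂ W]
      (ρ : Representation ℂ (SUg F n q) W), RootNontriv ρ → T q n ≤ finrank ℂ W := by
  intro n
  induction n using Nat.strong_induction_on with
  | _ n ih =>
    intro hn W _ _ _ ρ hρ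
    obtain ⟨m, rfl⟩ : ∃ m, n = m + 2 := ⟨n - 2, by omega⟩
    exact claim_step hF m (by omega) (fun hm3 W _ _ _ ρ' hρ' => ih m (by omega) hm3 W ρ' hρ') W ρ hρ

end Cfsg.Agent.Lib.Helper6.Ls
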