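import Cfsg.Agent.Lib.Helper6.Ls.All

set_option autoImplicit false

namespace Cfsg.Agent.Lib.Helper6.Ls

open Module Cfsg.Agent.Lib.Helper99

section abstract

variable {G : Type*} [Group G] [Finite G] {W : Type*} [AddCommGroup W] [Module ℂ W]
  [FiniteDimensional ℂ W]

/-- the lower bound `dim C_U(Z) + (q-1) q^m ≤ dim U` from the Heisenberg and torus data. -/
theorem lower (ρ : Representation ℂ G W) (U : Submodule ℂ W) (Z Q1 : Subgroup G) (hZQ : Z ≤ Q1)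
    (hQ1 : ∀ a ∈ Q1, ∀ b ∈ Q1, a * b = b * a)
    {ι : Type*} [Fintype ι] (y : ι → G) (hyZ : ∀ i, ∀ z ∈ Z, y i * z = z * y i)
    (hy : ∀ i, ∀ a ∈ Q1, (y i)⁻¹ * a * y i * a⁻¹ ∈ Z)
    (hsep : ∀ i j, i ≠ j → ∀ z ∈ Z, ∃ a ∈ Q1, (y i)⁻¹ * a * y i * ((y j)⁻¹ * a * y j)⁻¹ = z)
    {κ : Type*} [Fintype κ] (t : κ → G)
    (htZ : ∀ k, ∀ z ∈ Z, (t k)⁻¹ * z * t k ∈ Z)
    (hfree : ∀ k k', k ≠ k' → ∀ z' ∈ Z, ∃ z ∈ Z, (t k)⁻¹ * z * t k * ((t k')⁻¹ * z * t k')⁻¹ = z')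
    (hUQ : ∀ a ∈ Q1, Stable ρ a U) (hUy : ∀ i, Stable ρ (y i) U) (hUt : ∀ k, Stable ρ (t k) U)
    (hnt : ActsNontriv ρ Z U) :
    finrank ℂ (fixIn ρ Z U) + Fintype.card κ * Fintype.card ι ≤ finrank ℂ U := by
  obtain ⟨lam, hlam, hne⟩ := exists_eig_of_actsNontriv ρ Z
    (fun a ha b hb => hQ1 a (hZQ ha) b (hZQ hb)) U (fun z hz => hUQ z (hZQ hz)) hnt
  obtain ⟨lams, hdist, hnt', hne'⟩ := torus_eigs ρ U Z t htZ hfree hUt lam hlam hne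
  have h1 := sum_finrank_eigIn_le ρ Z U lams hdist hnt'
  have h2 : Fintype.card κ * Fintype.card ι ≤ ∑ k, finrank ℂ (eigIn ρ Z (lams k) U) := by
    calc Fintype.card κ * Fintype.card ι = ∑ _k : κ, Fintype.card ι := by
          rw [Finset.sum_const, Finset.card_univ, smul_eq_mul]
      _ ≤ _ := Finset.sum_le_sum (fun k _ =>
          heis_bound ρ U Z Q1 hZQ hQ1 y hyZ hy hsep hUQ hUy (lams k) (hnt' k) (hne' k))
  omega

end abstract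

end Cfsg.Agent.Lib.Helper6.Ls
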